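import Groth.Agent.GrpQuotLib.Orbit
import Groth.Agent.MonoFibre.Orbit
import Groth.Agent.S7984
import Groth.Prelude.Def_W4c6nonredquotmfGoodQuot

/-!
# Orbits of rational points in good quotients
-/

set_option autoImplicit false
set_option backward.isDefEq.respectTransparency false
set_option linter.style.haveILetI false
set_option maxHeartbeats 1000000

universe u

namespace Groth.Agent.GoodQuotLib

open CategoryTheory CategoryTheory.Limits MonoidalCategory CartesianMonoidalCategory MonObj AlgebraicGeometry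

theorem isPullback_whiskerLeft_left {S : Scheme.{u}} (A : Over S) {T' T : Over S} (t : T' ⟶ T) :
    IsPullback (A ◁ t).left (snd A T').left (snd A T).left t.left := by
  refine IsPullback.of_right (h₁₂ := (fst A T).left) (v₁₃ := A.hom) (h₂₂ := T.hom) ?_ ?_
    (IsPullback.of_hasPullback A.hom T.hom)
  · rw [← Over.comp_left, whiskerLeft_fst, Over.w t]
    exact IsPullback.of_hasPullback A.hom T'.hom
  · rw [← Over.comp_left, whiskerLeft_snd, Over.comp_left]

variable {k : Type u} [Field k] {G X : Over (Spec (CommRingCat.of k))} [GrpObj G]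

theorem isInvariantSet_closure_orbit [LocallyOfFiniteType G.hom] (a : AlgGrp.Action G X)
    (x : 𝟙_ (Over (Spec (CommRingCat.of k))) ⟶ X) :
    NRQuot.IsInvariantSet a (closure (Set.range (a.orbitMap x).left.base)) := by
  intro p hp
  haveI : UniversallyOpen (snd G X).left := inferInstanceAs (UniversallyOpen (pullback.snd G.hom X.hom))
  let o := a.orbitMap x
  have e : (G ◁ o) ≫ a.act = (fst G G * snd G G) ≫ o := by
    rw [Groth.Agent.GrpQuotLib.comp_orbitMap, Groth.Agent.GrpQuotLib.mul_smul,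
      show toUnit (G ⊗ G) = snd G G ≫ toUnit G from toUnit_unique _ _]
    have h1 : lift (snd G G) ((snd G G ≫ toUnit G) ≫ x) ≫ a.act = snd G G ≫ o := by
      rw [Groth.Agent.GrpQuotLib.comp_orbitMap, show toUnit (G ⊗ G) = snd G G ≫ toUnit G from toUnit_unique _ _]
    rw [h1]
    congr 1
  have hsub : a.act.left '' ((snd G X).left ⁻¹' Set.range o.left.base) ⊆ Set.range o.left.base := by
    rintro _ ⟨q, ⟨g, hg⟩, rfl⟩
    obtain ⟨r, hr, -⟩ := Scheme.exists_preimage_of_isPullback (isPullback_whiskerLeft_left G o) q g hg.symm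
    refine ⟨(fst G G * snd G G).left r, ?_⟩
    rw [← hr, ← Scheme.Hom.comp_apply, ← Scheme.Hom.comp_apply, ← Over.comp_left, ← Over.comp_left, e]
  exact closure_mono hsub (image_closure_subset_closure_image a.act.left.continuous
    ⟨p, (snd G X).left.isOpenMap.preimage_closure_subset_closure_preimage hp, rfl⟩)

theorem point_mem_orbit (a : AlgGrp.Action G X) (x : 𝟙_ (Over (Spec (CommRingCat.of k))) ⟶ X)
    (t : ↥(𝟙_ (Over (Spec (CommRingCat.of k)))).left) : x.left t ∈ Set.range (a.orbitMap x).left.base := by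
  refine ⟨(1 : 𝟙_ (Over (Spec (CommRingCat.of k))) ⟶ G).left t, ?_⟩
  rw [← Scheme.Hom.comp_apply, ← Over.comp_left, Groth.Agent.GrpQuotLib.comp_orbitMap,
    toUnit_unique (toUnit (𝟙_ (Over (Spec (CommRingCat.of k))))) (𝟙 _), Category.id_comp, Groth.Agent.GrpQuotLib.one_smul]

/-- Rational points with the same image are equal. -/
theorem ext_section {Y : Scheme.{u}} (h : Y ⟶ Spec (CommRingCat.of k)) {f g : Spec (CommRingCat.of k) ⟶ Y}
    (hf : f ≫ h = 𝟙 _) (hg : g ≫ h = 𝟙 _) (H : f (IsLocalRing.closedPoint k) = g (IsLocalRing.closedPoint k)) :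
    f = g := by
  obtain ⟨V, hV, hyV, -⟩ := exists_isAffineOpen_mem_and_subset (U := (⊤ : Y.Opens))
    (x := f (IsLocalRing.closedPoint k)) trivial
  have hr : ∀ u : Spec (CommRingCat.of k) ⟶ Y, u (IsLocalRing.closedPoint k) ∈ V → Set.range u ⊆ Set.range hV.fromSpec := by
    rintro u hu _ ⟨z, rfl⟩
    rw [hV.range_fromSpec, Subsingleton.elim z (IsLocalRing.closedPoint k)]
    exact hu
  obtain ⟨φ, hφ⟩ : ∃ φ, Spec.map φ ≫ hV.fromSpec = f := ⟨Spec.preimage (IsOpenImmersion.lift hV.fromSpec f (hr f hyV)),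
    by rw [Spec.map_preimage, IsOpenImmersion.lift_fac]⟩
  obtain ⟨ψ, hψ⟩ : ∃ ψ, Spec.map ψ ≫ hV.fromSpec = g := ⟨Spec.preimage (IsOpenImmersion.lift hV.fromSpec g (hr g (H ▸ hyV))),
    by rw [Spec.map_preimage, IsOpenImmersion.lift_fac]⟩
  let jV := Spec.preimage (hV.fromSpec ≫ h)
  have hjV : Spec.map jV = hV.fromSpec ≫ h := Spec.map_preimage _
  have h1 : ∀ c, φ (jV c) = c := fun c => congr($(Spec.map_injective (show Spec.map (jV ≫ φ) = Spec.map (𝟙 _) by
    rw [Spec.map_comp, hjV, ← Category.assoc, hφ, hf, Spec.map_id])) c)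
  have h2 : ∀ c, ψ (jV c) = c := fun c => congr($(Spec.map_injective (show Spec.map (jV ≫ ψ) = Spec.map (𝟙 _) by
    rw [Spec.map_comp, hjV, ← Category.assoc, hψ, hg, Spec.map_id])) c)
  have h3 : Spec.map φ (IsLocalRing.closedPoint k) = Spec.map ψ (IsLocalRing.closedPoint k) :=
    hV.fromSpec.isOpenEmbedding.injective (by rw [← Scheme.Hom.comp_apply, ← Scheme.Hom.comp_apply, hφ, hψ, H])
  have h4 : ∀ b, φ b = 0 → ψ b = 0 := fun b hb => by
    have hb1 : b ∈ (Spec.map φ (IsLocalRing.closedPoint k)).asIdeal := by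
      show φ b ∈ IsLocalRing.maximalIdeal k
      rw [hb]
      exact zero_mem _
    rw [h3] at hb1
    have hb2 : ψ b ∈ IsLocalRing.maximalIdeal k := hb1
    rw [IsLocalRing.maximalIdeal_eq_bot] at hb2
    exact hb2
  rw [← hφ, ← hψ, show φ = ψ from ?_]
  ext b
  have h5 := h4 (b - jV (φ b)) (by rw [map_sub, h1, sub_self])
  rw [map_sub, h2, sub_eq_zero] at h5
  exact h5.symm


variable {Y : Over (Spec (CommRingCat.of k))}

theorem isClosed_point (y : 𝟙_ (Over (Spec (CommRingCat.of k))) ⟶ Y) (t : ↥(𝟙_ (Over (Spec (CommRingCat.of k)))).left) :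
    IsClosed ({y.left t} : Set ↥Y.left) := by
  haveI : Subsingleton ↥(𝟙_ (Over (Spec (CommRingCat.of k)))).left := inferInstanceAs (Subsingleton (Spec (CommRingCat.of k)))
  haveI : Nonempty ↥(𝟙_ (Over (Spec (CommRingCat.of k)))).left := ⟨t⟩
  haveI : IsClosedImmersion y.left := isClosedImmersion_of_comp_eq_id Y.hom y.left (Over.w y)
  have h2 := y.left.isClosedEmbedding.isClosed_range
  rwa [Set.range_eq_singleton_iff.mpr fun s => by rw [Subsingleton.elim s t]] at h2

theorem ext_point {f g : 𝟙_ (Over (Spec (CommRingCat.of k))) ⟶ Y} (t : ↥(𝟙_ (Over (Spec (CommRingCat.of k)))).left)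
    (H : f.left t = g.left t) : f = g := by
  haveI : Subsingleton ↥(𝟙_ (Over (Spec (CommRingCat.of k)))).left := inferInstanceAs (Subsingleton (Spec (CommRingCat.of k)))
  refine Over.OverMorphism.ext (ext_section Y.hom (Over.w f) (Over.w g) ?_)
  refine Eq.trans ?_ (H.trans ?_)
  · exact congrArg f.left (Subsingleton.elim (α := ↥(𝟙_ (Over (Spec (CommRingCat.of k)))).left) _ _)
  · exact congrArg g.left (Subsingleton.elim (α := ↥(𝟙_ (Over (Spec (CommRingCat.of k)))).left) _ _)

theorem closure_orbit_subset_fibre (a : AlgGrp.Action G X) (φ : X ⟶ Y) (hinv : GIT.IsInvariant a φ)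
    (x : 𝟙_ (Over (Spec (CommRingCat.of k))) ⟶ X) (t : ↥(𝟙_ (Over (Spec (CommRingCat.of k)))).left) :
    closure (Set.range (a.orbitMap x).left.base) ⊆ φ.left ⁻¹' {(x ≫ φ).left t} := by
  haveI : Subsingleton ↥(𝟙_ (Over (Spec (CommRingCat.of k)))).left := inferInstanceAs (Subsingleton (Spec (CommRingCat.of k)))
  refine closure_minimal ?_ ((isClosed_point (x ≫ φ) t).preimage φ.left.continuous)
  rintro _ ⟨g, rfl⟩
  show φ.left ((a.orbitMap x).left g) = _
  have e : a.orbitMap x ≫ φ = toUnit G ≫ x ≫ φ := by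
    rw [AlgGrp.Action.orbitMap, Category.assoc, hinv, lift_snd_assoc, Category.assoc]
  rw [← Scheme.Hom.comp_apply, ← Over.comp_left, e, Over.comp_left, Scheme.Hom.comp_apply,
    Subsingleton.elim ((toUnit G).left g) t]

/-- The complement of an invariant set is invariant. -/
theorem isInvariantSet_compl (a : AlgGrp.Action G X) {W : Set ↥X.left} (hW : NRQuot.IsInvariantSet a W) :
    NRQuot.IsInvariantSet a Wᶜ := by
  intro p hp hp'
  let q : G ⊗ X ⟶ G ⊗ X := lift (fst G X)⁻¹ a.act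
  have e : q ≫ a.act = snd G X := by
    have h1 : a.act = lift (fst G X) (snd G X) ≫ a.act := by simp
    rw [show q ≫ a.act = lift (fst G X)⁻¹ (lift (fst G X) (snd G X) ≫ a.act) ≫ a.act by rw [← h1],
      ← Groth.Agent.GrpQuotLib.mul_smul, inv_mul_cancel, Groth.Agent.GrpQuotLib.one_smul]
  have h2 := hW (q.left p) (by rw [← Scheme.Hom.comp_apply, ← Over.comp_left, lift_snd]; exact hp')
  rw [← Scheme.Hom.comp_apply, ← Over.comp_left, e] at h2
  exact hp h2

/-- The orbit itself is invariant. -/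
theorem isInvariantSet_orbit (a : AlgGrp.Action G X) (x : 𝟙_ (Over (Spec (CommRingCat.of k))) ⟶ X) :
    NRQuot.IsInvariantSet a (Set.range (a.orbitMap x).left.base) := by
  rintro p ⟨g, hg⟩
  obtain ⟨r, hr, -⟩ := Scheme.exists_preimage_of_isPullback (isPullback_whiskerLeft_left G (a.orbitMap x)) p g hg.symm
  refine ⟨(fst G G * snd G G).left r, ?_⟩
  rw [← hr, ← Scheme.Hom.comp_apply, ← Scheme.Hom.comp_apply, ← Over.comp_left, ← Over.comp_left]
  congr 3
  rw [Groth.Agent.GrpQuotLib.comp_orbitMap, Groth.Agent.GrpQuotLib.mul_smul,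
    show toUnit (G ⊗ G) = snd G G ≫ toUnit G from toUnit_unique _ _, Category.assoc]
  have h1 : lift (snd G G) (snd G G ≫ toUnit G ≫ x) ≫ a.act = snd G G ≫ a.orbitMap x := by
    rw [Groth.Agent.GrpQuotLib.comp_orbitMap, show toUnit (G ⊗ G) = snd G G ≫ toUnit G from toUnit_unique _ _,
      Category.assoc]
  rw [h1]
  congr 1

/-- An invariant set containing a rational point contains its orbit. -/
theorem orbit_subset (a : AlgGrp.Action G X) {W : Set ↥X.left} (hW : NRQuot.IsInvariantSet a W)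
    (x : 𝟙_ (Over (Spec (CommRingCat.of k))) ⟶ X) (hx : ∀ t, x.left t ∈ W) :
    Set.range (a.orbitMap x).left.base ⊆ W := by
  rintro _ ⟨g, rfl⟩
  have e : a.orbitMap x = lift (𝟙 G) (toUnit G ≫ x) ≫ a.act := rfl
  rw [e, Over.comp_left, Scheme.Hom.comp_apply]
  refine hW _ ?_
  rw [← Scheme.Hom.comp_apply, ← Over.comp_left, lift_snd, Over.comp_left, Scheme.Hom.comp_apply]
  exact hx _

/-- Rational points with meeting orbit closures and closed orbits are translates of each other. -/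
theorem exists_smul_eq_of_inter [IsAlgClosed k] [LocallyOfFiniteType G.hom] [LocallyOfFiniteType X.hom]
    (a : AlgGrp.Action G X) (x₁ x₂ : 𝟙_ (Over (Spec (CommRingCat.of k))) ⟶ X)
    (h₁ : IsClosed (Set.range (a.orbitMap x₁).left.base)) (h₂ : IsClosed (Set.range (a.orbitMap x₂).left.base))
    (hne : (Set.range (a.orbitMap x₁).left.base ∩ Set.range (a.orbitMap x₂).left.base).Nonempty) :
    ∃ g : 𝟙_ (Over (Spec (CommRingCat.of k))) ⟶ G, lift g x₁ ≫ a.act = x₂ := by
  haveI : JacobsonSpace X.left := LocallyOfFiniteType.jacobsonSpace X.hom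
  obtain ⟨p, hp, hpc⟩ := nonempty_inter_closedPoints hne (h₁.inter h₂).isLocallyClosed
  have hp' : IsClosed ({p} : Set ↥X.left) := mem_closedPoints_iff.mp hpc
  have hlift : ∀ x : 𝟙_ (Over (Spec (CommRingCat.of k))) ⟶ X, p ∈ Set.range (a.orbitMap x).left.base →
      ∃ g : 𝟙_ (Over (Spec (CommRingCat.of k))) ⟶ G, (lift g x ≫ a.act).left (IsLocalRing.closedPoint k) = p := by
    intro x hx
    obtain ⟨g, hg⟩ := MonoFibre.exists_ratPt_mem (G := G) (hp'.preimage (a.orbitMap x).left.continuous) hx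
    refine ⟨g, ?_⟩
    have e : g ≫ a.orbitMap x = lift g x ≫ a.act := by
      rw [Groth.Agent.GrpQuotLib.comp_orbitMap,
        toUnit_unique (toUnit (𝟙_ (Over (Spec (CommRingCat.of k))))) (𝟙 _), Category.id_comp]
    rw [← e]
    exact hg
  obtain ⟨g₁, hg₁⟩ := hlift x₁ hp.1
  obtain ⟨g₂, hg₂⟩ := hlift x₂ hp.2
  have he : lift g₁ x₁ ≫ a.act = lift g₂ x₂ ≫ a.act := ext_point _ (hg₁.trans hg₂.symm)
  refine ⟨g₂⁻¹ * g₁, ?_⟩
  rw [Groth.Agent.GrpQuotLib.mul_smul, he, ← Groth.Agent.GrpQuotLib.mul_smul, inv_mul_cancel,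
    Groth.Agent.GrpQuotLib.one_smul]

end Groth.Agent.GoodQuotLib
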